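import Cfsg.Agent.MinSimple.VModule
import Cfsg.Agent.Omega.NoFF.Basic
import Cfsg.Agent.Lib.ProductSet

/-!
# Elementary abelian subgroups of maximal order (tools for THEOREM EX, #22180 (2) / #21690)

* `AA X A` : `A ≤ X` is elementary abelian of maximal order;
* `AA.thompson` : `|N : C_N(A)| ≤ |A : C_A(N)|` for `A ∈ AA(O)`, `N ≤ O` elementary abelian;
* `AA.repl` : with the reverse inequality, `C_A(N) N ∈ AA(O)`, `N ⊓ C(A) = A ⊓ N`.
-/

set_option autoImplicit false
set_option linter.unusedSectionVars false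
set_option linter.unusedVariables false

namespace Cfsg.Agent.Omega.ELV

open Subgroup
open Cfsg.Agent.ZN (o2)
open scoped Pointwise

universe u

variable {G : Type u} [Group G]

/-- elementary abelian of maximal order -/
structure AA (X A : Subgroup G) : Prop where
  le : A ≤ X
  sq : ∀ a ∈ A, a * a = 1
  max : ∀ B : Subgroup G, B ≤ X → (∀ b ∈ B, b * b = 1) → Nat.card B ≤ Nat.card A

theorem comm_of_sq {A : Subgroup G} (h : ∀ a ∈ A, a * a = 1) {a b : G} (ha : a ∈ A) (hb : b ∈ A) :
    a * b = b * a := by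
  have h1 := h _ (A.mul_mem ha hb)
  have h2 := h _ ha
  have h3 := h _ hb
  calc a * b = a * b * (a * b * (a * b)) * ((b * b) * (a * a)) := by rw [h1, h2, h3]; simp
    _ = a * b * (a * b) * (a * (b * b) * b * (a * a)) := by group
    _ = a * b * (a * b) * ((a * b) * (a * a)) := by rw [h3, mul_one]
    _ = (a * b * (a * b)) * (a * b) := by rw [h2, mul_one]
    _ = a * b := by rw [h1, one_mul]
    _ = b * a := by
        have h4 : a * b * (a * b) = 1 := h1
        have h5 : a * (a * b * (a * b)) * b = a * b := by rw [h4, mul_one]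
        calc a * b = a * (a * b * (a * b)) * b := h5.symm
          _ = (a * a) * (b * a) * (b * b) := by group
          _ = b * a := by rw [h2, h3, one_mul, mul_one]

theorem le_cent_of_sq {A : Subgroup G} (h : ∀ a ∈ A, a * a = 1) : A ≤ centralizer (A : Set G) :=
  fun _ ha => mem_centralizer_iff.2 fun _ hb => comm_of_sq h hb ha

/-- products of commuting elementary abelian groups -/
theorem sup_sq {A N : Subgroup G} (hA : ∀ a ∈ A, a * a = 1) (hN : ∀ n ∈ N, n * n = 1)
    (hAN : A ≤ centralizer (N : Set G)) : ∀ x ∈ A ⊔ N, x * x = 1 := by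
  intro x hx
  have h1 : x ∈ ((A ⊔ N : Subgroup G) : Set G) := hx
  rw [coe_mul_of_left_le_normalizer_right A N (hAN.trans (centralizer_le_normalizer _))] at h1
  obtain ⟨a, ha, n, hn, rfl⟩ := Set.mem_mul.mp h1
  have h2 : n * a = a * n := mem_centralizer_iff.1 (hAN ha) n hn
  calc a * n * (a * n) = a * (n * a) * n := by group
    _ = a * a * (n * n) := by rw [h2]; group
    _ = 1 := by rw [hA a ha, hN n hn, one_mul]

theorem mem_sup_of_comm {A N : Subgroup G} (hAN : A ≤ normalizer (N : Set G)) {x : G} (hx : x ∈ A ⊔ N) :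
    ∃ a ∈ A, ∃ n ∈ N, a * n = x := by
  have h1 : x ∈ ((A ⊔ N : Subgroup G) : Set G) := hx
  rw [coe_mul_of_left_le_normalizer_right A N hAN] at h1
  obtain ⟨a, ha, n, hn, e⟩ := Set.mem_mul.mp h1
  exact ⟨a, ha, n, hn, e⟩

/-! ### conjugation -/

theorem mem_cj {g x : G} {H : Subgroup G} : x ∈ MulAut.conj g • H ↔ g⁻¹ * x * g ∈ H := NoFF.Basic.mem_conj

theorem cj_cj (g h : G) (H : Subgroup G) : MulAut.conj g • (MulAut.conj h • H) = MulAut.conj (g * h) • H :=
  NoFF.Basic.conj_conj g h H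

theorem cj_inv_cj (g : G) (H : Subgroup G) : MulAut.conj g⁻¹ • (MulAut.conj g • H) = H := by
  rw [cj_cj, inv_mul_cancel, map_one, one_smul]

theorem cj_cj_inv (g : G) (H : Subgroup G) : MulAut.conj g • (MulAut.conj g⁻¹ • H) = H := by
  rw [cj_cj, mul_inv_cancel, map_one, one_smul]

theorem cj_mono {g : G} {A B : Subgroup G} (h : A ≤ B) : MulAut.conj g • A ≤ MulAut.conj g • B :=
  NoFF.Basic.conj_le_iff.2 h

theorem cj_le {g : G} {A B : Subgroup G} (h : ∀ a ∈ A, g * a * g⁻¹ ∈ B) : MulAut.conj g • A ≤ B := by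
  intro x hx
  have h1 := h _ (mem_cj.1 hx)
  have e : g * (g⁻¹ * x * g) * g⁻¹ = x := by group
  rwa [e] at h1

theorem mem_cj_of {g a : G} {A : Subgroup G} (h : a ∈ A) : g * a * g⁻¹ ∈ MulAut.conj g • A := by
  rw [mem_cj]
  have e : g⁻¹ * (g * a * g⁻¹) * g = a := by group
  rwa [e]

theorem cj_eq_iff {g : G} {H : Subgroup G} : MulAut.conj g • H = H ↔ g ∈ normalizer (H : Set G) := by
  rw [mem_normalizer_iff]
  constructor
  · intro e x
    constructor
    · intro hx
      have := mem_cj_of (g := g) hx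
      rwa [e] at this
    · intro hx
      rw [← e, mem_cj] at hx
      have e2 : g⁻¹ * (g * x * g⁻¹) * g = x := by group
      rwa [e2] at hx
  · intro h
    ext x
    rw [mem_cj, h]
    have e2 : g * (g⁻¹ * x * g) * g⁻¹ = x := by group
    rw [e2]

theorem cj_centralizer (g : G) (H : Subgroup G) :
    MulAut.conj g • centralizer (H : Set G) = centralizer ((MulAut.conj g • H : Subgroup G) : Set G) := by
  apply le_antisymm
  · exact NoFF.Basic.conj_le_centralizer le_rfl
  · have h1 := NoFF.Basic.conj_le_centralizer (g := g⁻¹)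
      (le_refl (centralizer ((MulAut.conj g • H : Subgroup G) : Set G)))
    rw [cj_inv_cj] at h1
    have h2 := cj_mono (g := g) h1
    rwa [cj_cj_inv] at h2

theorem card_cj (g : G) (H : Subgroup G) : Nat.card (MulAut.conj g • H : Subgroup G) = Nat.card H :=
  Nat.card_congr (Subgroup.equivSMul (MulAut.conj g) H).symm.toEquiv

theorem cj_sup (g : G) (A B : Subgroup G) : MulAut.conj g • (A ⊔ B) = MulAut.conj g • A ⊔ MulAut.conj g • B :=
  Subgroup.map_sup _ _ _

theorem cj_inf (g : G) (A B : Subgroup G) : MulAut.conj g • (A ⊓ B) = MulAut.conj g • A ⊓ MulAut.conj g • B := by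
  ext x
  rw [mem_inf, mem_cj, mem_cj, mem_cj, mem_inf]

theorem cj_sq {g : G} {A : Subgroup G} (h : ∀ a ∈ A, a * a = 1) : ∀ a ∈ MulAut.conj g • A, a * a = 1 := by
  intro a ha
  have h1 := h _ (mem_cj.1 ha)
  have h2 : g⁻¹ * (a * a) * g = 1 := by rw [← h1]; group
  calc a * a = g * (g⁻¹ * (a * a) * g) * g⁻¹ := by group
    _ = 1 := by rw [h2]; group

theorem cj_two {g : G} {A : Subgroup G} (h : IsPGroup 2 A) : IsPGroup 2 (MulAut.conj g • A : Subgroup G) :=
  h.of_equiv (Subgroup.equivSMul (MulAut.conj g) A)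

/-- `⟨Z^H⟩` -/
theorem V_le_iff {Z P A : Subgroup G} : NoFF.Basic.V Z P ≤ A ↔ ∀ p ∈ P, MulAut.conj p • Z ≤ A :=
  ⟨fun h _ hp => (NoFF.Basic.Z_le_V hp).trans h, NoFF.Basic.V_le⟩

theorem Z_le_V' {Z P : Subgroup G} : Z ≤ NoFF.Basic.V Z P := by
  have := NoFF.Basic.Z_le_V (Z := Z) (P := P) (one_mem P)
  rwa [map_one, one_smul] at this

theorem cj_V (g : G) (Z P : Subgroup G) :
    MulAut.conj g • NoFF.Basic.V Z P = NoFF.Basic.V (MulAut.conj g • Z) (MulAut.conj g • P) := by
  have key : ∀ (g : G) (Z P : Subgroup G),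
      MulAut.conj g • NoFF.Basic.V Z P ≤ NoFF.Basic.V (MulAut.conj g • Z) (MulAut.conj g • P) := by
    intro g Z P
    refine NoFF.Basic.conj_V_le fun p hp => ?_
    have h1 := NoFF.Basic.Z_le_V (Z := MulAut.conj g • Z) (P := MulAut.conj g • P) (mem_cj_of hp)
    rw [cj_cj] at h1
    have e : g * p * g⁻¹ * g = g * p := by group
    rwa [e] at h1
  apply le_antisymm (key g Z P)
  have h1 := cj_mono (g := g) (key g⁻¹ (MulAut.conj g • Z) (MulAut.conj g • P))
  rwa [cj_inv_cj, cj_inv_cj, cj_cj_inv] at h1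

theorem norm_V (Z P : Subgroup G) : P ≤ normalizer (NoFF.Basic.V Z P : Set G) := by
  intro p hp
  rw [← cj_eq_iff]
  have := NoFF.Basic.conj_V_mul (Z := Z) (g := 1) hp
  rwa [one_mul, map_one, one_smul] at this

theorem o2_le_o2_normal {A C : Subgroup G} (hAC : A ≤ C) (hn : C ≤ normalizer (A : Set G)) : o2 A ≤ o2 C := by
  refine MinSimple.VModule.le_o2 ((MinSimple.VModule.o2_le A).trans hAC) (MinSimple.VModule.o2_isPGroup A) ?_
  intro c hc
  rw [← cj_eq_iff]
  have hcA : MulAut.conj c • A = A := cj_eq_iff.2 (hn hc)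
  have key : ∀ c : G, MulAut.conj c • A = A → MulAut.conj c • o2 A ≤ o2 A := by
    intro c hcA
    refine MinSimple.VModule.le_o2 ?_ (cj_two (MinSimple.VModule.o2_isPGroup A)) ?_
    · have := cj_mono (g := c) (MinSimple.VModule.o2_le A)
      rwa [hcA] at this
    · intro a ha
      rw [← cj_eq_iff, cj_cj]
      have h1 : c⁻¹ * a * c ∈ A := by
        rw [← mem_cj, hcA]
        exact ha
      have h2 := cj_eq_iff.2 (MinSimple.VModule.le_normalizer_o2 A h1)
      have e : a * c = c * (c⁻¹ * a * c) := by group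
      rw [e, ← cj_cj, h2]
  apply le_antisymm (key c hcA)
  have hcA' : MulAut.conj c⁻¹ • A = A := by
    conv_lhs => rw [← hcA]
    rw [cj_inv_cj]
  have h2 := cj_mono (g := c) (key c⁻¹ hcA')
  rwa [cj_cj_inv] at h2

theorem cj_o2 (g : G) (A : Subgroup G) : MulAut.conj g • o2 A = o2 (MulAut.conj g • A) := by
  have key : ∀ (g : G) (A : Subgroup G), MulAut.conj g • o2 A ≤ o2 (MulAut.conj g • A) := by
    intro g A
    refine MinSimple.VModule.le_o2 (cj_mono (MinSimple.VModule.o2_le A))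
      (cj_two (MinSimple.VModule.o2_isPGroup A)) ?_
    intro a ha
    rw [← cj_eq_iff, cj_cj]
    have h2 := cj_eq_iff.2 (MinSimple.VModule.le_normalizer_o2 A (mem_cj.1 ha))
    have e : a * g = g * (g⁻¹ * a * g) := by group
    rw [e, ← cj_cj, h2]
  apply le_antisymm (key g A)
  have h1 := cj_mono (g := g) (key g⁻¹ (MulAut.conj g • A))
  rwa [cj_inv_cj, cj_cj_inv] at h1

namespace AA

variable {X A : Subgroup G}

theorem cj (h : AA X A) (g : G) : AA (MulAut.conj g • X) (MulAut.conj g • A) where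
  le := cj_mono h.le
  sq := cj_sq h.sq
  max := by
    intro B hB hsq
    rw [card_cj, ← card_cj g⁻¹ B]
    refine h.max _ ?_ (cj_sq hsq)
    have := cj_mono (g := g⁻¹) hB
    rwa [cj_inv_cj] at this

theorem comm (h : AA X A) : A ≤ centralizer (A : Set G) := le_cent_of_sq h.sq

theorem mono {Y : Subgroup G} (h : AA X A) (hA : A ≤ Y) (hY : Y ≤ X) : AA Y A where
  le := hA
  sq := h.sq
  max := fun B hB hsq => h.max B (hB.trans hY) hsq

theorem of_card {B : Subgroup G} (h : AA X A) (hB : B ≤ X) (hsq : ∀ b ∈ B, b * b = 1)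
    (hc : Nat.card B = Nat.card A) : AA X B where
  le := hB
  sq := hsq
  max := fun C hC hC2 => (h.max C hC hC2).trans hc.ge

variable [Finite G]

theorem card_eq {B : Subgroup G} (h : AA X A) (h' : AA X B) : Nat.card A = Nat.card B :=
  le_antisymm (h'.max A h.le h.sq) (h.max B h'.le h'.sq)

/-- an elementary abelian group over `A` is `A` -/
theorem eq_of_le {B : Subgroup G} (h : AA X A) (hAB : A ≤ B) (hB : B ≤ X) (hsq : ∀ b ∈ B, b * b = 1) : A = B :=
  Subgroup.eq_of_le_of_card_ge hAB (h.max B hB hsq)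

/-- an elementary abelian group of `X` centralising `A` lies in `A` -/
theorem le_of_cent {B : Subgroup G} (h : AA X A) (hB : B ≤ X) (hsq : ∀ b ∈ B, b * b = 1)
    (hc : A ≤ centralizer (B : Set G)) : B ≤ A := by
  have h1 := h.eq_of_le (le_sup_left : A ≤ A ⊔ B) (sup_le h.le hB) (sup_sq h.sq hsq hc)
  exact le_sup_right.trans h1.ge

end AA

variable [Finite G]

theorem exists_AA (X : Subgroup G) : ∃ A, AA X A := by
  let s : Set ℕ := {n | ∃ B : Subgroup G, B ≤ X ∧ (∀ b ∈ B, b * b = 1) ∧ Nat.card B = n}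
  have hne : s.Nonempty := ⟨_, ⊥, bot_le, by simp, rfl⟩
  have hbd : BddAbove s := ⟨Nat.card G, by
    rintro _ ⟨B, -, -, rfl⟩
    exact Subgroup.card_le_card_group B⟩
  obtain ⟨A, hA, hsq, hc⟩ := Nat.sSup_mem hne hbd
  exact ⟨A, hA, hsq, fun B hB hB2 => by rw [hc]; exact le_csSup hbd ⟨B, hB, hB2, rfl⟩⟩

/-- `|A ⊓ B| |A : A ⊓ B| = |A|` -/
theorem card_inf_mul (A B : Subgroup G) : Nat.card (A ⊓ B : Subgroup G) * B.relIndex A = Nat.card A := by
  rw [← inf_relIndex_left A B]
  have h1 := Subgroup.card_mul_index ((A ⊓ B).subgroupOf A)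
  have h2 : Nat.card ((A ⊓ B).subgroupOf A) = Nat.card (A ⊓ B : Subgroup G) :=
    Nat.card_congr (subgroupOfEquivOfLe inf_le_left).toEquiv
  rw [h2] at h1
  exact h1

/-- `|A N| |A ⊓ N| = |A| |N|` -/
theorem card_sup_mul {A N : Subgroup G} (hAN : A ≤ normalizer (N : Set G)) :
    Nat.card (A ⊔ N : Subgroup G) * Nat.card (A ⊓ N : Subgroup G) = Nat.card A * Nat.card N := by
  rw [← Cfsg.Agent.Lib.ProductSet.card_mul_card_inf A N]
  congr 1
  exact Nat.card_congr (Equiv.setCongr (Subgroup.coe_mul_of_left_le_normalizer_right A N hAN))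

/-- the order of `C_A(N) N` -/
theorem card_CN {A N : Subgroup G} (hA : A ≤ centralizer (A : Set G)) (hN : ∀ n ∈ N, n * n = 1) :
    Nat.card (A ⊓ centralizer (N : Set G) ⊔ N : Subgroup G) * Nat.card (A ⊓ N : Subgroup G) =
      Nat.card (A ⊓ centralizer (N : Set G) : Subgroup G) * Nat.card N := by
  have h1 := card_sup_mul (A := A ⊓ centralizer (N : Set G)) (N := N)
    (inf_le_right.trans (centralizer_le_normalizer _))
  have h2 : A ⊓ centralizer (N : Set G) ⊓ N = A ⊓ N := by
    rw [inf_assoc, inf_eq_right.2 (le_cent_of_sq hN)]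
  rwa [h2] at h1

theorem CN_sq {A N : Subgroup G} (hA : ∀ a ∈ A, a * a = 1) (hN : ∀ n ∈ N, n * n = 1) :
    ∀ x ∈ A ⊓ centralizer (N : Set G) ⊔ N, x * x = 1 :=
  sup_sq (fun a ha => hA a ha.1) hN inf_le_right

namespace AA

variable {O A N : Subgroup G}

/-- **Thompson**: `|N : C_N(A)| ≤ |A : C_A(N)|` -/
theorem thompson (h : AA O A) (hNO : N ≤ O) (hN : ∀ n ∈ N, n * n = 1) :
    (centralizer (A : Set G)).relIndex N ≤ (centralizer (N : Set G)).relIndex A := by
  have h1 := card_CN (N := N) h.comm hN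
  have h2 := h.max _ (sup_le (inf_le_left.trans h.le) hNO) (CN_sq h.sq hN)
  have h3 := card_inf_mul A (centralizer (N : Set G))
  have h4 := card_inf_mul N (centralizer (A : Set G))
  have h5 : Nat.card (A ⊓ N : Subgroup G) ≤ Nat.card (N ⊓ centralizer (A : Set G) : Subgroup G) :=
    Subgroup.card_le_of_le (le_inf inf_le_right (inf_le_left.trans h.comm))
  have p1 : 0 < Nat.card (A ⊓ centralizer (N : Set G) : Subgroup G) := Nat.card_pos
  have p2 : 0 < Nat.card (N ⊓ centralizer (A : Set G) : Subgroup G) := Nat.card_pos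
  have p3 : 0 < Nat.card (A ⊓ N : Subgroup G) := Nat.card_pos
  set a := Nat.card (A ⊓ centralizer (N : Set G) : Subgroup G)
  set b := Nat.card (N ⊓ centralizer (A : Set G) : Subgroup G)
  set c := Nat.card (A ⊓ N : Subgroup G)
  set d := Nat.card (A ⊓ centralizer (N : Set G) ⊔ N : Subgroup G)
  -- `a |N| = d c ≤ |A| c ≤ |A| b = a r b`, `|N| = b s`
  have h6 : a * Nat.card N ≤ a * ((centralizer (N : Set G)).relIndex A * b) := by
    calc a * Nat.card N = d * c := h1.symm
      _ ≤ Nat.card A * c := Nat.mul_le_mul_right _ h2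
      _ ≤ Nat.card A * b := Nat.mul_le_mul_left _ h5
      _ = a * ((centralizer (N : Set G)).relIndex A * b) := by rw [← h3]; ring
  have h7 := Nat.le_of_mul_le_mul_left h6 p1
  rw [← h4, mul_comm] at h7
  exact Nat.le_of_mul_le_mul_right h7 p2

/-- **The replacement**: if `|A : C_A(N)| ≤ |N : C_N(A)|`, then `C_A(N) N ∈ AA(O)` and `C_N(A) ≤ A` -/
theorem repl (h : AA O A) (hNO : N ≤ O) (hN : ∀ n ∈ N, n * n = 1)
    (hno : (centralizer (N : Set G)).relIndex A ≤ (centralizer (A : Set G)).relIndex N) :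
    AA O (A ⊓ centralizer (N : Set G) ⊔ N) ∧
      (centralizer (N : Set G)).relIndex A = (centralizer (A : Set G)).relIndex N := by
  have h0 := h.thompson hNO hN
  have he := le_antisymm hno h0
  refine ⟨h.of_card (sup_le (inf_le_left.trans h.le) hNO) (CN_sq h.sq hN) ?_, he⟩
  have h1 := card_CN (N := N) h.comm hN
  have h2 := h.max _ (sup_le (inf_le_left.trans h.le) hNO) (CN_sq h.sq hN)
  have h3 := card_inf_mul A (centralizer (N : Set G))
  have h4 := card_inf_mul N (centralizer (A : Set G))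
  have h5 : Nat.card (A ⊓ N : Subgroup G) ≤ Nat.card (N ⊓ centralizer (A : Set G) : Subgroup G) :=
    Subgroup.card_le_of_le (le_inf inf_le_right (inf_le_left.trans h.comm))
  have p3 : 0 < Nat.card (A ⊓ N : Subgroup G) := Nat.card_pos
  rw [he] at h3
  set a := Nat.card (A ⊓ centralizer (N : Set G) : Subgroup G)
  set b := Nat.card (N ⊓ centralizer (A : Set G) : Subgroup G)
  set c := Nat.card (A ⊓ N : Subgroup G)
  set d := Nat.card (A ⊓ centralizer (N : Set G) ⊔ N : Subgroup G)
  apply le_antisymm h2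
  have h6 : Nat.card A * c ≤ d * c := by
    calc Nat.card A * c ≤ Nat.card A * b := Nat.mul_le_mul_left _ h5
      _ = a * Nat.card N := by rw [← h3, ← h4]; ring
      _ = d * c := h1.symm
  exact Nat.le_of_mul_le_mul_right h6 p3

end AA

end Cfsg.Agent.Omega.ELV
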