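import Cfsg.Agent.Omega.NO3S.EMany.Four
import Cfsg.Agent.Omega.NO3S.EThree.FrameGB

/-!
# (E), `k ≥ 3`: THEOREM LV (bb #22180), (0.2) and its consequences, over `Bg`

* `exists_cj_ZJ` : `v ∈ V_P` is conjugate into `Z_J` by an element of `P` fixing all factors;
* `mem_W_of` : (0.2) `w ∈ W m`, `g w g⁻¹ ∈ V_P` implies `g w g⁻¹ ∈ W n` for some `n`;
* `cj_W_of_le` : (0.2') `r ∈ N(Z i)`, `(W i)^r ≤ V_P` implies `(W i)^r = W i`;
* `norm_C` : `N(V_P) ⊓ N(W i) ≤ N(C i)`.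
-/

set_option autoImplicit false
set_option linter.unusedSectionVars false

namespace Cfsg.Agent.Omega.ELV

open Subgroup Cfsg Cfsg.Agent.ZN.ChoiceBase
open Cfsg.Agent.ZN (zc zl o2)
open Cfsg.Agent.ZN.ChoiceSit (Syl exists_syl syl_conj)
open Cfsg.Agent.Omega.NO3S.EThree.Frame
open Cfsg.Agent.Omega.OM.Uni

universe u

variable {G : Type u} [Group G]

theorem mem_of_cj_eq {X : Subgroup G} {g : G} (e : cj g X = X) {x : G} : g * x * g⁻¹ ∈ X ↔ x ∈ X := by
  constructor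
  · intro h1
    rw [← e, mem_cj] at h1
    have e1 : g⁻¹ * (g * x * g⁻¹) * g = x := by group
    rwa [e1] at h1
  · intro h1
    rw [← e]
    exact ⟨x, h1, rfl⟩

variable [Finite G] {S : Sylow 2 G} {P : Subgroup G} {ι : Type} [Finite ι] {B ZJ : Subgroup G}
  {L W Z C : ι → Subgroup G} {q : ℕ} (h : Bg S P B ZJ L W Z C q)
include h

theorem P_norm : P ≤ normalizer (zl (S : Subgroup G) P : Set G) := MinSimple.VModule.le_normalizer_zl _ _

omit [Finite ι] in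
theorem perm_of {l : G} (hl : l ∈ P) {n : ι} (e : cj l (W n) = W n) : cj l (C n) = C n := by
  obtain ⟨σ, hσ⟩ := h.perm l hl
  have h1 := (hσ n).1
  rw [e] at h1
  have h2 : σ n = n := (h.W_inj h1).symm
  rw [(hσ n).2, h2]

/-- an element of `V_P` whose components lie in the `Z n` lies in `Z_J` -/
theorem mem_ZJ_of {v : G} (hv : v ∈ zl (S : Subgroup G) P) (hc : ∀ n, ∃ z ∈ Z n, ∃ c ∈ C n, v = z * c) : v ∈ ZJ := by
  refine (h.fr.mem_ZJ v).2 ⟨hv, fun b hb => ?_⟩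
  have hbv : b * v * b⁻¹ ∈ zl (S : Subgroup G) P := (mem_normalizer_iff.1 (h.bau_norm hb) v).1 hv
  have h1 : b * v * b⁻¹ * v⁻¹ = 1 := by
    refine h.fr.C0 _ (mul_mem hbv (inv_mem hv)) fun n => ?_
    obtain ⟨z, hz, c, hc, e⟩ := hc n
    have hz1 := (h.fr.blk n).cZ b hb z hz
    have hbc := h.fr.BC n b hb c hc
    have h2 := h.fr.Vc (h.fr.ZV n hz) (h.fr.CV n (mul_mem hbc (inv_mem hc)))
    have e1 : b * v * b⁻¹ * v⁻¹ = b * c * b⁻¹ * c⁻¹ := by
      rw [e]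
      calc b * (z * c) * b⁻¹ * (z * c)⁻¹ = (b * z) * c * b⁻¹ * c⁻¹ * z⁻¹ := by group
        _ = (z * b) * c * b⁻¹ * c⁻¹ * z⁻¹ := by rw [hz1]
        _ = z * (b * c * b⁻¹ * c⁻¹) * z⁻¹ := by group
        _ = (b * c * b⁻¹ * c⁻¹) * z * z⁻¹ := by rw [h2]
        _ = b * c * b⁻¹ * c⁻¹ := by group
    rw [e1]
    exact mul_mem hbc (inv_mem hc)
  exact mul_inv_eq_iff_eq_mul.1 (mul_inv_eq_one.1 h1)

/-- An element of `V_P` is conjugate into `Z_J` by an element of `P` which fixes all factors. -/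
theorem exists_cj_ZJ {v : G} (hv : v ∈ zl (S : Subgroup G) P) :
    ∃ l ∈ P, (∀ n, cj l (W n) = W n) ∧ l * v * l⁻¹ ∈ ZJ := by
  classical
  have := Fintype.ofFinite ι
  have key : ∀ s : Finset ι, ∃ l ∈ P, (∀ n, cj l (W n) = W n) ∧
      ∀ n ∈ s, ∃ z ∈ Z n, ∃ c ∈ C n, l * v * l⁻¹ = z * c := by
    intro s
    induction s using Finset.induction_on with
    | empty => exact ⟨1, one_mem _, fun n => cj_one _, fun n hn => absurd hn (Finset.notMem_empty n)⟩
    | insert m s hm ih =>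
      obtain ⟨l, hl, hlW, hls⟩ := ih
      have hv' : l * v * l⁻¹ ∈ zl (S : Subgroup G) P := (mem_normalizer_iff.1 (P_norm h hl) v).1 hv
      obtain ⟨w, hw, c, hc, e⟩ := h.fr.WC m _ hv'
      by_cases hw1 : w = 1
      · refine ⟨l, hl, hlW, fun n hn => ?_⟩
        rcases Finset.mem_insert.1 hn with rfl | hn
        · exact ⟨1, one_mem _, c, hc, by rw [e, hw1]⟩
        · exact hls n hn
      · obtain ⟨l', hl', hlc, z, hz, e1⟩ := h.tr m w hw hw1
        have hl'W : ∀ n, cj l'⁻¹ (W n) = W n := fun n => h.fix (inv_mem hl') (inv_mem hlc) n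
        refine ⟨l'⁻¹ * l, mul_mem (inv_mem hl') hl, fun n => by rw [← cj_cj, hlW, hl'W], fun n hn => ?_⟩
        have e2 : l'⁻¹ * l * v * (l'⁻¹ * l)⁻¹ = l'⁻¹ * (l * v * l⁻¹) * l' := by group
        rcases Finset.mem_insert.1 hn with rfl | hn
        · refine ⟨z, hz, c, hc, ?_⟩
          have h3 := mem_centralizer_iff.1 hlc c hc
          rw [e2, e, ← e1]
          calc l'⁻¹ * (l' * z * l'⁻¹ * c) * l' = z * (l'⁻¹ * (c * l')) := by group
            _ = z * (l'⁻¹ * (l' * c)) := by rw [h3]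
            _ = z * c := by group
        · obtain ⟨z', hz', c', hc', e3⟩ := hls n hn
          have hnm : n ≠ m := fun e => hm (e ▸ hn)
          have h3 := mem_centralizer_iff.1 hlc z' (h.fr.WjC m n hnm.symm ((h.fr.blk n).ZV hz'))
          refine ⟨z', hz', l'⁻¹ * c' * l', ?_, ?_⟩
          · have h4 := perm_of h (inv_mem hl') (hl'W n)
            have h5 := (mem_of_cj_eq h4).2 hc'
            rwa [inv_inv] at h5
          · rw [e2, e3]
            calc l'⁻¹ * (z' * c') * l' = l'⁻¹ * (z' * l') * (l'⁻¹ * c' * l') := by group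
              _ = l'⁻¹ * (l' * z') * (l'⁻¹ * c' * l') := by rw [h3]
              _ = z' * (l'⁻¹ * c' * l') := by group
  obtain ⟨l, hl, hlW, hls⟩ := key Finset.univ
  exact ⟨l, hl, hlW, mem_ZJ_of h ((mem_normalizer_iff.1 (P_norm h hl) v).1 hv) fun n => hls n (Finset.mem_univ _)⟩

/-- **(0.2)** for elements of the `Z m`. -/
theorem mem_W_of_Z {m : ι} {z g : G} (hz : z ∈ Z m) (hg : g * z * g⁻¹ ∈ zl (S : Subgroup G) P) :
    ∃ n, g * z * g⁻¹ ∈ W n := by
  obtain ⟨l, hl, hlW, hlv⟩ := exists_cj_ZJ h hg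
  obtain ⟨n, hn⟩ := h.fus (i := m) (g := l * g) hlv (by
    have e : (l * g)⁻¹ * (l * (g * z * g⁻¹) * l⁻¹) * (l * g) = z := by group
    rw [e]
    exact hz)
  exact ⟨n, (mem_of_cj_eq (hlW n)).1 ((h.fr.blk n).ZV hn)⟩

/-- **(0.2)** -/
theorem mem_W_of {m : ι} {w g : G} (hw : w ∈ W m) (hg : g * w * g⁻¹ ∈ zl (S : Subgroup G) P) :
    ∃ n, g * w * g⁻¹ ∈ W n := by
  by_cases hw1 : w = 1
  · refine ⟨m, ?_⟩
    rw [hw1, mul_one, mul_inv_cancel]
    exact one_mem _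
  obtain ⟨l, hl, hlc, z, hz, e⟩ := h.tr m w hw hw1
  have e1 : g * w * g⁻¹ = (g * l) * z * (g * l)⁻¹ := by rw [← e]; group
  rw [e1] at hg ⊢
  exact mem_W_of_Z h hz hg

/-- **(0.2')** -/
theorem cj_W_of_le {i : ι} {r : G} (hr : r ∈ normalizer (Z i : Set G))
    (hle : cj r (W i) ≤ zl (S : Subgroup G) P) : cj r (W i) = W i := by
  obtain ⟨z, hz, hz1⟩ : ∃ x ∈ Z i, x ≠ 1 := by
    by_contra hcon
    push Not at hcon
    exact h.Z_ne i ((eq_bot_iff_forall _).2 hcon)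
  have hzr : z ∈ cj r (W i) := by
    have h1 := cj_mono r (h.fr.blk i).ZV
    rw [mem_normalizer_iff_cj.1 hr] at h1
    exact h1 hz
  refine Subgroup.eq_of_le_of_card_ge ?_ (by rw [card_cj])
  have key : ∀ u ∈ cj r (W i), ∃ n, u ∈ W n := by
    rintro _ ⟨w, hw, rfl⟩
    exact mem_W_of h hw (hle ⟨w, hw, rfl⟩)
  intro u hu
  obtain ⟨n, hn⟩ := key u hu
  obtain ⟨n', hn'⟩ := key (u * z) (mul_mem hu hzr)
  by_cases h1 : n = i
  · rwa [h1] at hn
  by_cases h2 : n' = i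
  · rw [h2] at hn'
    have h3 := mul_mem hn' (inv_mem ((h.fr.blk i).ZV hz))
    rwa [mul_inv_cancel_right] at h3
  exfalso
  have h3 : z ∈ W i ⊓ C i := by
    refine ⟨(h.fr.blk i).ZV hz, ?_⟩
    have h4 := mul_mem (inv_mem (h.fr.WjC i n (Ne.symm h1) hn)) (h.fr.WjC i n' (Ne.symm h2) hn')
    rwa [inv_mul_cancel_left] at h4
  rw [h.fr.dir i, mem_bot] at h3
  exact hz1 h3

/-- an element of `N(Z i)` normalising `V_P` normalises `W i` -/
theorem norm_W {i : ι} {g : G} (hV : g ∈ normalizer (zl (S : Subgroup G) P : Set G))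
    (hg : g ∈ normalizer (Z i : Set G)) : g ∈ normalizer (W i : Set G) := by
  rw [mem_normalizer_iff_cj]
  refine cj_W_of_le h hg ?_
  have h1 := cj_mono g (h.fr.WV i)
  rwa [mem_normalizer_iff_cj.1 hV] at h1

/-- an element of `N(W i)` normalising `V_P` normalises `C i` -/
theorem norm_C {i : ι} {g : G} (hV : g ∈ normalizer (zl (S : Subgroup G) P : Set G))
    (hg : g ∈ normalizer (W i : Set G)) : g ∈ normalizer (C i : Set G) := by
  have key : cj g (C i) ≤ C i := by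
    refine (cj_mono g (h.C_le i)).trans ?_
    have e5 : cj g (⨆ l : {l : ι // l ≠ i}, W l) = ⨆ l : {l : ι // l ≠ i}, cj g (W l) :=
      Subgroup.map_iSup _ _
    rw [e5]
    refine iSup_le fun l => ?_
    rintro _ ⟨w, hw, rfl⟩
    have h1 : g * w * g⁻¹ ∈ zl (S : Subgroup G) P := (mem_normalizer_iff.1 hV w).1 (h.fr.WV l hw)
    obtain ⟨n, hn⟩ := mem_W_of h hw h1
    change g * w * g⁻¹ ∈ C i
    by_cases hni : n = i
    · rw [hni] at hn
      have h2 : w ∈ W i := (mem_normalizer_iff.1 hg w).2 hn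
      have h3 : w ∈ W i ⊓ W l := ⟨h2, hw⟩
      rw [h.W_disj l.2.symm, mem_bot] at h3
      rw [h3, mul_one, mul_inv_cancel]
      exact one_mem _
    · exact h.fr.WjC i n (Ne.symm hni) hn
  rw [mem_normalizer_iff_cj]
  exact Subgroup.eq_of_le_of_card_ge key (by rw [card_cj])

end Cfsg.Agent.Omega.ELV
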