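import Cfsg.Agent.Omega.ELV.AA

/-!
# THEOREM EX (#22180 (2), #21690; helper254 / helper547), abstract over `H₁, H₂, M, R, P₁, z₁, z₂, s`

`M = C_{H₁}(z₂)`, `Q_i = O₂(H_i)`, `N₁ = ⟨z₂^{H₁}⟩`, `s` swaps `H₁, H₂` and `z₁, z₂`, `R ≤ H₁` (`= C_{H₁}(V₁) T`),
`U_l = ⟨z₂^R⟩` is normalised by `P₁`, `H₂ = ⟨M, P₁⟩`, `⟨H₁, H₂⟩` normalises no 2-group.

* `ExI` : this setting, with `(QP)` and `(NO)` on `N₁` and `U_l`;
* `ExI.cO` : `C_O(N₁) = Q₁`, `ExI.AA_Q` : `AA(Q₁), AA(Q₂) ⊆ AA(O)`, `ExI.jmov` : `J(Q₂)` moves `N₁`;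
* **`ExI.main`** : for some `A ∈ AA(Q₂)` the group `B = C_A(U_l) U_l ∈ AA(O)` moves `N₁` and `B ≤ O₂(R)`.
-/

set_option autoImplicit false
set_option linter.unusedSectionVars false

namespace Cfsg.Agent.Omega.ELV

open Subgroup
open Cfsg.Agent.ZN (o2)
open NoFF.Basic (V)
open scoped Pointwise

universe u

variable {G : Type u} [Group G]

theorem cj_zp (g z : G) : MulAut.conj g • zpowers z = zpowers (g * z * g⁻¹) := by
  rw [← MulAut.conj_apply]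
  exact (MonoidHom.map_zpowers (MulAut.conj g).toMonoidHom z)

/-- `A` does not over-offend on `N` -/
def No (N A : Subgroup G) : Prop :=
  (centralizer (N : Set G)).relIndex A ≤ (centralizer (A : Set G)).relIndex N

/-- **The setting of THEOREM EX.** -/
structure ExI (H₁ H₂ M R P₁ : Subgroup G) (z₁ z₂ s : G) : Prop where
  M1 : M ≤ H₁
  M2 : M ≤ H₂
  st : ∀ h ∈ H₁, h * z₂ = z₂ * h → h ∈ M
  cz : ∀ m ∈ M, m * z₂ = z₂ * m
  sq : z₂ * z₂ = 1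
  ne : z₂ ≠ 1
  zQ : z₂ ∈ o2 H₁
  zc : z₂ ∈ centralizer (o2 H₁ : Set G)
  s1 : MulAut.conj s • H₁ = H₂
  s2 : MulAut.conj s • H₂ = H₁
  sM : MulAut.conj s • M = M
  sz1 : s * z₁ * s⁻¹ = z₂
  sz2 : s * z₂ * s⁻¹ = z₁
  nl : ∀ X : Subgroup G, IsPGroup 2 X → H₁ ≤ normalizer (X : Set G) → H₂ ≤ normalizer (X : Set G) → X = ⊥
  RH : R ≤ H₁
  QR : o2 H₂ ≤ R
  zR : z₂ ∈ R
  PH : P₁ ≤ H₂
  PU : P₁ ≤ normalizer (V (zpowers z₂) R : Set G)
  gen : H₂ ≤ M ⊔ P₁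
  /-- `(QP)` -/
  qp : ∀ K : Subgroup G, K ≤ H₁ → H₁ ≤ normalizer (K : Set G) → (∃ k ∈ K, k * z₂ ≠ z₂ * k) → H₁ ≤ K ⊔ M
  /-- `(NO)` for `H₁` on `N₁` -/
  no1 : ∀ A : Subgroup G, A ≤ o2 M → (∀ a ∈ A, a * a = 1) → No (V (zpowers z₂) H₁) A
  /-- `(NO)` for `R` on `U_l` -/
  noU : ∀ A : Subgroup G, A ≤ o2 H₂ → (∀ a ∈ A, a * a = 1) → No (V (zpowers z₂) R) A

namespace ExI

variable {H₁ H₂ M R P₁ : Subgroup G} {z₁ z₂ s : G} (h : ExI H₁ H₂ M R P₁ z₁ z₂ s)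

include h

theorem Q1M : o2 H₁ ≤ M := fun q hq =>
  h.st q (MinSimple.VModule.o2_le _ hq) (mem_centralizer_iff.1 h.zc q hq)

theorem Q1O : o2 H₁ ≤ o2 M :=
  MinSimple.VModule.le_o2 h.Q1M (MinSimple.VModule.o2_isPGroup _) (h.M1.trans (MinSimple.VModule.le_normalizer_o2 _))

theorem sQ1 : MulAut.conj s • o2 H₁ = o2 H₂ := by rw [cj_o2, h.s1]

theorem sQ2 : MulAut.conj s • o2 H₂ = o2 H₁ := by rw [cj_o2, h.s2]

theorem sO : MulAut.conj s • o2 M = o2 M := by rw [cj_o2, h.sM]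

theorem Q2O : o2 H₂ ≤ o2 M := by
  rw [← h.sQ1, ← h.sO]
  exact cj_mono h.Q1O

theorem OH : o2 M ≤ H₁ := (MinSimple.VModule.o2_le _).trans h.M1

theorem N_le_of {X : Subgroup G} (hz : z₂ ∈ X) (hX : H₁ ≤ normalizer (X : Set G)) : V (zpowers z₂) H₁ ≤ X := by
  refine NoFF.Basic.V_le fun p hp => ?_
  rw [← cj_eq_iff.2 (hX hp)]
  exact cj_mono (by simpa using hz)

theorem NQ : V (zpowers z₂) H₁ ≤ o2 H₁ := h.N_le_of h.zQ (MinSimple.VModule.le_normalizer_o2 _)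

theorem NO : V (zpowers z₂) H₁ ≤ o2 M := h.NQ.trans h.Q1O

/-- `N₁ ≤ C(Q₁)` -/
theorem NC : V (zpowers z₂) H₁ ≤ centralizer (o2 H₁ : Set G) := by
  refine h.N_le_of h.zc fun g hg => ?_
  rw [← cj_eq_iff, cj_centralizer, cj_eq_iff.2 (MinSimple.VModule.le_normalizer_o2 _ hg)]

theorem QC : o2 H₁ ≤ centralizer (V (zpowers z₂) H₁ : Set G) := NoFF.Basic.comm_symm h.NC

theorem Nab : V (zpowers z₂) H₁ ≤ centralizer (V (zpowers z₂) H₁ : Set G) := h.NQ.trans h.QC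

theorem z2N : z₂ ∈ V (zpowers z₂) H₁ := Z_le_V' (mem_zpowers z₂)

theorem Nsq : ∀ n ∈ V (zpowers z₂) H₁, n * n = 1 := by
  let E : Subgroup G :=
    { carrier := {n | n ∈ V (zpowers z₂) H₁ ∧ n * n = 1}
      one_mem' := ⟨one_mem _, one_mul 1⟩
      mul_mem' := by
        rintro a b ⟨ha, ha2⟩ ⟨hb, hb2⟩
        refine ⟨mul_mem ha hb, ?_⟩
        have h1 : b * a = a * b := mem_centralizer_iff.1 (h.Nab ha) b hb
        calc a * b * (a * b) = a * (b * a) * b := by group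
          _ = a * a * (b * b) := by rw [h1]; group
          _ = 1 := by rw [ha2, hb2, one_mul]
      inv_mem' := by
        rintro a ⟨ha, ha2⟩
        refine ⟨inv_mem ha, ?_⟩
        rw [← mul_inv_rev, ha2, inv_one] }
  have key : V (zpowers z₂) H₁ ≤ E := by
    refine h.N_le_of ⟨h.z2N, h.sq⟩ fun g hg => ?_
    have h1 := norm_V (zpowers z₂) H₁ hg
    rw [mem_normalizer_iff] at h1 ⊢
    intro x
    have e : g * x * g⁻¹ * (g * x * g⁻¹) = g * (x * x) * g⁻¹ := by group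
    constructor
    · rintro ⟨h2, h3⟩
      refine ⟨(h1 x).1 h2, ?_⟩
      rw [e, h3, mul_one, mul_inv_cancel]
    · rintro ⟨h2, h3⟩
      refine ⟨(h1 x).2 h2, ?_⟩
      rw [e] at h3
      exact conj_eq_one_iff.1 h3
  exact fun n hn => (key hn).2

/-- `C_{H₁}(N₁) ≤ M` -/
theorem CM : H₁ ⊓ centralizer (V (zpowers z₂) H₁ : Set G) ≤ M := fun x hx =>
  h.st x hx.1 (mem_centralizer_iff.1 hx.2 z₂ h.z2N).symm

/-- **`C_O(N₁) = Q₁`** -/
theorem cO : o2 M ⊓ centralizer (V (zpowers z₂) H₁ : Set G) ≤ o2 H₁ := by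
  set C := H₁ ⊓ centralizer (V (zpowers z₂) H₁ : Set G) with hC
  have hn : H₁ ≤ normalizer (C : Set G) := fun g hg => by
    rw [← cj_eq_iff, hC, cj_inf, cj_eq_iff.2 (le_normalizer hg), cj_centralizer,
      cj_eq_iff.2 (norm_V (zpowers z₂) H₁ hg)]
  have h1 : o2 M ⊓ centralizer (V (zpowers z₂) H₁ : Set G) ≤ o2 C := by
    refine MinSimple.VModule.le_o2 (inf_le_inf_right _ h.OH)
      ((MinSimple.VModule.o2_isPGroup M).to_le inf_le_left) fun g hg => ?_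
    rw [← cj_eq_iff, cj_inf, cj_eq_iff.2 (MinSimple.VModule.le_normalizer_o2 M (h.CM hg)), cj_centralizer,
      cj_eq_iff.2 (norm_V (zpowers z₂) H₁ hg.1)]
  exact h1.trans (o2_le_o2_normal inf_le_left hn)

variable [Finite G]

/-- `C_A(N₁) N₁ ∈ AA(O)`, exactness on `N₁` -/
theorem repl {A : Subgroup G} (hA : AA (o2 M) A) :
    AA (o2 M) (A ⊓ centralizer (V (zpowers z₂) H₁ : Set G) ⊔ V (zpowers z₂) H₁) ∧
      (centralizer (V (zpowers z₂) H₁ : Set G)).relIndex A = (centralizer (A : Set G)).relIndex (V (zpowers z₂) H₁) :=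
  hA.repl h.NO h.Nsq (h.no1 A hA.le hA.sq)

theorem sh_le {A : Subgroup G} (hA : A ≤ o2 M) :
    A ⊓ centralizer (V (zpowers z₂) H₁ : Set G) ⊔ V (zpowers z₂) H₁ ≤ o2 H₁ :=
  sup_le ((inf_le_inf_right _ hA).trans h.cO) h.NQ

/-- `AA(Q₁) ⊆ AA(O)` -/
theorem AA_Q1 {A : Subgroup G} (hA : AA (o2 H₁) A) : AA (o2 M) A := by
  obtain ⟨B, hB⟩ := exists_AA (o2 M)
  obtain ⟨h1, -⟩ := h.repl hB
  have h2 := h1.mono (h.sh_le hB.le) h.Q1O
  exact h1.of_card (hA.le.trans h.Q1O) hA.sq (hA.card_eq h2)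

/-- `AA(Q₂) ⊆ AA(O)` -/
theorem AA_Q2 {A : Subgroup G} (hA : AA (o2 H₂) A) : AA (o2 M) A := by
  have h1 := hA.cj s
  rw [h.sQ2] at h1
  have h2 := (h.AA_Q1 h1).cj s⁻¹
  have h3 : MulAut.conj s⁻¹ • o2 M = o2 M := by
    conv_lhs => rw [← h.sO]
    rw [cj_inv_cj]
  rwa [cj_inv_cj, h3] at h2

theorem Q1_of_card {A : Subgroup G} (hA : AA (o2 M) A) (hle : A ≤ o2 H₁) : AA (o2 H₁) A := hA.mono hle h.Q1O

/-- **some `A ∈ AA(Q₂)` moves `N₁`** -/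
theorem jmov : ∃ A, AA (o2 H₂) A ∧ ¬ A ≤ centralizer (V (zpowers z₂) H₁ : Set G) := by
  by_contra hcon
  push Not at hcon
  have h21 : ∀ A, AA (o2 H₂) A → AA (o2 H₁) A := fun A hA =>
    h.Q1_of_card (h.AA_Q2 hA) ((le_inf (h.AA_Q2 hA).le (hcon A hA)).trans h.cO)
  have h12 : ∀ A, AA (o2 H₁) A → AA (o2 H₂) A := by
    intro A hA
    have h1 := hA.cj s⁻¹
    have e1 : MulAut.conj s⁻¹ • o2 H₁ = o2 H₂ := by rw [← h.sQ2, cj_inv_cj]
    rw [e1] at h1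
    have h2 := (h21 _ h1).cj s
    rwa [cj_cj_inv, h.sQ1] at h2
  set J : Subgroup G := sSup {A | AA (o2 H₁) A} with hJ
  have hJQ : J ≤ o2 H₁ := sSup_le fun A hA => hA.le
  have hJn : ∀ g : G, (∀ A, AA (o2 H₁) A → AA (o2 H₁) (MulAut.conj g • A)) → MulAut.conj g • J ≤ J := by
    intro g hg
    have e : J ≤ MulAut.conj g⁻¹ • J := by
      refine sSup_le fun A hA => ?_
      have h1 : MulAut.conj g • A ≤ J := le_sSup (hg A hA)
      have h2 := cj_mono (g := g⁻¹) h1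
      rwa [cj_inv_cj] at h2
    have := cj_mono (g := g) e
    rwa [cj_cj_inv] at this
  have hnorm : ∀ H : Subgroup G, (∀ g ∈ H, ∀ A, AA (o2 H₁) A → AA (o2 H₁) (MulAut.conj g • A)) →
      H ≤ normalizer (J : Set G) := by
    intro H hH g hg
    rw [← cj_eq_iff]
    refine le_antisymm (hJn g (hH g hg)) ?_
    have h1 := cj_mono (g := g) (hJn g⁻¹ (hH g⁻¹ (inv_mem hg)))
    rwa [cj_cj_inv] at h1
  have hJ1 : J = ⊥ := by
    refine h.nl J ((MinSimple.VModule.o2_isPGroup _).to_le hJQ) (hnorm H₁ fun g hg A hA => ?_)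
      (hnorm H₂ fun g hg A hA => ?_)
    · have h1 := hA.cj g
      rwa [cj_eq_iff.2 (MinSimple.VModule.le_normalizer_o2 _ hg)] at h1
    · have h1 := (h12 A hA).cj g
      rw [cj_eq_iff.2 (MinSimple.VModule.le_normalizer_o2 _ hg)] at h1
      exact h21 _ h1
  obtain ⟨A, hA⟩ := exists_AA (o2 H₁)
  have h1 : A ≤ ⊥ := hJ1 ▸ (le_sSup hA : A ≤ J)
  have h2 : z₂ ∈ A := hA.le_of_cent (B := zpowers z₂) (by simpa using h.zQ) (fun b hb => by
    have : b ∈ V (zpowers z₂) H₁ := Z_le_V' hb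
    exact h.Nsq b this) (h1.trans bot_le) (mem_zpowers z₂)
  exact h.ne (mem_bot.1 (h1 h2))

/-! ### `U_l` -/

theorem UN : V (zpowers z₂) R ≤ V (zpowers z₂) H₁ := NoFF.Basic.V_le fun _ hp => NoFF.Basic.Z_le_V (h.RH hp)

theorem Usq : ∀ n ∈ V (zpowers z₂) R, n * n = 1 := fun n hn => h.Nsq n (h.UN hn)

/-- `C_A(U_l) U_l ∈ AA(O)` for `A ∈ AA(Q₂)` -/
theorem replU {A : Subgroup G} (hA : AA (o2 H₂) A) :
    AA (o2 M) (A ⊓ centralizer (V (zpowers z₂) R : Set G) ⊔ V (zpowers z₂) R) :=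
  ((h.AA_Q2 hA).repl (h.UN.trans h.NO) h.Usq (h.noU A hA.le hA.sq)).1

/-- `C_{Q₂}(U_l) U_l ≤ O₂(R)` -/
theorem U_le_o2R : o2 H₂ ⊓ centralizer (V (zpowers z₂) R : Set G) ⊔ V (zpowers z₂) R ≤ o2 R := by
  apply sup_le
  · set C := R ⊓ centralizer (V (zpowers z₂) R : Set G) with hC
    have hCM : C ≤ M := fun x hx =>
      h.st x (h.RH hx.1) (mem_centralizer_iff.1 hx.2 z₂ (Z_le_V' (mem_zpowers z₂))).symm
    have hn : R ≤ normalizer (C : Set G) := fun g hg => by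
      rw [← cj_eq_iff, hC, cj_inf, cj_eq_iff.2 (le_normalizer hg), cj_centralizer,
        cj_eq_iff.2 (norm_V (zpowers z₂) R hg)]
    have h1 : o2 H₂ ⊓ centralizer (V (zpowers z₂) R : Set G) ≤ o2 C := by
      refine MinSimple.VModule.le_o2 (inf_le_inf_right _ h.QR)
        ((MinSimple.VModule.o2_isPGroup H₂).to_le inf_le_left) fun g hg => ?_
      rw [← cj_eq_iff, cj_inf, cj_eq_iff.2 (MinSimple.VModule.le_normalizer_o2 H₂ (h.M2 (hCM hg))), cj_centralizer,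
        cj_eq_iff.2 (norm_V (zpowers z₂) R hg.1)]
    exact h1.trans (o2_le_o2_normal inf_le_left hn)
  · have h1 : V (zpowers z₂) R ≤ o2 H₁ ⊓ R := by
      refine le_inf (h.UN.trans h.NQ) (NoFF.Basic.V_le fun p hp => ?_)
      rw [← cj_eq_iff.2 (le_normalizer hp)]
      exact cj_mono (by simpa using h.zR)
    refine h1.trans (MinSimple.VModule.le_o2 inf_le_right
      ((MinSimple.VModule.o2_isPGroup H₁).to_le inf_le_left) fun g hg => ?_)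
    rw [← cj_eq_iff, cj_inf, cj_eq_iff.2 (MinSimple.VModule.le_normalizer_o2 H₁ (h.RH hg)),
      cj_eq_iff.2 (le_normalizer hg)]

/-! ### The contradiction -/

section con

variable (hcon : ∀ A, AA (o2 H₂) A →
  A ⊓ centralizer (V (zpowers z₂) R : Set G) ≤ centralizer (V (zpowers z₂) H₁ : Set G))
include hcon

theorem sh_eq {A : Subgroup G} (hA : AA (o2 H₂) A) :
    A ⊓ centralizer (V (zpowers z₂) R : Set G) ⊔ V (zpowers z₂) R =
      A ⊓ centralizer (V (zpowers z₂) H₁ : Set G) ⊔ V (zpowers z₂) H₁ := by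
  refine (h.replU hA).eq_of_le
    (sup_le ((le_inf inf_le_left (hcon A hA)).trans le_sup_left) (h.UN.trans le_sup_right))
    (sup_le (inf_le_left.trans (h.AA_Q2 hA).le) h.NO) (CN_sq hA.sq h.Nsq)

/-- `(A#)^g = (A^g)#` for `g ∈ H₂` -/
theorem sh_cj {g : G} (hg : g ∈ H₂) {A : Subgroup G} (hA : AA (o2 H₂) A) :
    MulAut.conj g • (A ⊓ centralizer (V (zpowers z₂) H₁ : Set G) ⊔ V (zpowers z₂) H₁) =
      (MulAut.conj g • A) ⊓ centralizer (V (zpowers z₂) H₁ : Set G) ⊔ V (zpowers z₂) H₁ := by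
  have hAA : ∀ g ∈ H₂, ∀ A, AA (o2 H₂) A → AA (o2 H₂) (MulAut.conj g • A) := by
    intro g hg A hA
    have h1 := hA.cj g
    rwa [cj_eq_iff.2 (MinSimple.VModule.le_normalizer_o2 _ hg)] at h1
  let E : Subgroup G :=
    { carrier := {g | g ∈ H₂ ∧ ∀ A, AA (o2 H₂) A →
        MulAut.conj g • (A ⊓ centralizer (V (zpowers z₂) H₁ : Set G) ⊔ V (zpowers z₂) H₁) =
          (MulAut.conj g • A) ⊓ centralizer (V (zpowers z₂) H₁ : Set G) ⊔ V (zpowers z₂) H₁}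
      one_mem' := ⟨one_mem _, fun A _ => by rw [map_one, one_smul, one_smul]⟩
      mul_mem' := by
        rintro a b ⟨ha, ha2⟩ ⟨hb, hb2⟩
        refine ⟨mul_mem ha hb, fun A hA => ?_⟩
        rw [← cj_cj, hb2 A hA, ha2 _ (hAA b hb A hA), cj_cj]
      inv_mem' := by
        rintro a ⟨ha, ha2⟩
        refine ⟨inv_mem ha, fun A hA => ?_⟩
        have h1 := ha2 _ (hAA a⁻¹ (inv_mem ha) A hA)
        rw [cj_cj_inv] at h1
        rw [← h1, cj_inv_cj] }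
  have hME : M ≤ E := by
    intro m hm
    refine ⟨h.M2 hm, fun A _ => ?_⟩
    rw [cj_sup, cj_inf, cj_centralizer, cj_eq_iff.2 (norm_V (zpowers z₂) H₁ (h.M1 hm))]
  have hPE : P₁ ≤ E := by
    intro p hp
    refine ⟨h.PH hp, fun A hA => ?_⟩
    rw [← h.sh_eq hcon hA, ← h.sh_eq hcon (hAA p (h.PH hp) A hA), cj_sup, cj_inf, cj_centralizer,
      cj_eq_iff.2 (h.PU hp)]
  exact ((h.gen.trans (sup_le hME hPE)) hg).2 A hA

/-- `M₂ = ⟨N₁^{H₂}⟩ ≤ A#` and `A# ≤ Q₂` -/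
theorem sh_two {A : Subgroup G} (hA : AA (o2 H₂) A) :
    V (V (zpowers z₂) H₁) H₂ ≤ A ⊓ centralizer (V (zpowers z₂) H₁ : Set G) ⊔ V (zpowers z₂) H₁ ∧
      A ⊓ centralizer (V (zpowers z₂) H₁ : Set G) ⊔ V (zpowers z₂) H₁ ≤ o2 H₂ := by
  have hAA : ∀ g ∈ H₂, ∀ A, AA (o2 H₂) A → AA (o2 H₂) (MulAut.conj g • A) := by
    intro g hg A hA
    have h1 := hA.cj g
    rwa [cj_eq_iff.2 (MinSimple.VModule.le_normalizer_o2 _ hg)] at h1
  constructor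
  · refine NoFF.Basic.V_le fun g hg => ?_
    have h1 := h.sh_cj hcon hg (hAA g⁻¹ (inv_mem hg) A hA)
    rw [cj_cj_inv] at h1
    rw [← h1]
    exact cj_mono le_sup_right
  · set J : Subgroup G := ⨆ A : {A : Subgroup G // AA (o2 H₂) A},
      ((A : Subgroup G) ⊓ centralizer (V (zpowers z₂) H₁ : Set G) ⊔ V (zpowers z₂) H₁) with hJ
    have hJQ : J ≤ o2 H₁ := iSup_le fun A => h.sh_le (h.AA_Q2 A.2).le
    have hn : ∀ g ∈ H₂, MulAut.conj g • J ≤ J := by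
      intro g hg
      have e : J ≤ MulAut.conj g⁻¹ • J := by
        refine iSup_le fun A => ?_
        have h1 : (MulAut.conj g • (A : Subgroup G)) ⊓ centralizer (V (zpowers z₂) H₁ : Set G) ⊔ V (zpowers z₂) H₁ ≤
            J := le_iSup (fun A : {A : Subgroup G // AA (o2 H₂) A} =>
              ((A : Subgroup G) ⊓ centralizer (V (zpowers z₂) H₁ : Set G) ⊔ V (zpowers z₂) H₁))
            ⟨MulAut.conj g • (A : Subgroup G), hAA g hg _ A.2⟩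
        rw [← h.sh_cj hcon hg A.2] at h1
        have h2 := cj_mono (g := g⁻¹) h1
        rwa [cj_inv_cj] at h2
      have := cj_mono (g := g) e
      rwa [cj_cj_inv] at this
    have h2 : J ≤ o2 H₂ := by
      refine MinSimple.VModule.le_o2 (hJQ.trans (h.Q1M.trans h.M2))
        ((MinSimple.VModule.o2_isPGroup _).to_le hJQ) fun g hg => ?_
      rw [← cj_eq_iff]
      refine le_antisymm (hn g hg) ?_
      have h1 := cj_mono (g := g) (hn g⁻¹ (inv_mem hg))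
      rwa [cj_cj_inv] at h1
    exact (le_iSup (fun A : {A : Subgroup G // AA (o2 H₂) A} =>
      ((A : Subgroup G) ⊓ centralizer (V (zpowers z₂) H₁ : Set G) ⊔ V (zpowers z₂) H₁)) ⟨A, hA⟩).trans h2

/-- `M₁ = ⟨N₂^{H₁}⟩ ≤ A#` -/
theorem M1_le {A : Subgroup G} (hA : AA (o2 H₂) A) :
    V (MulAut.conj s • V (zpowers z₂) H₁) H₁ ≤
      A ⊓ centralizer (V (zpowers z₂) H₁ : Set G) ⊔ V (zpowers z₂) H₁ := by
  set N := V (zpowers z₂) H₁ with hN
  set N₂ := MulAut.conj s • N with hN2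
  -- the swapped statement
  have hsw : ∀ B, AA (o2 H₁) B → V N₂ H₁ ≤ B ⊓ centralizer (N₂ : Set G) ⊔ N₂ ∧
      B ⊓ centralizer (N₂ : Set G) ⊔ N₂ ≤ o2 H₁ := by
    intro B hB
    have h1 := hB.cj s⁻¹
    have e1 : MulAut.conj s⁻¹ • o2 H₁ = o2 H₂ := by rw [← h.sQ2, cj_inv_cj]
    rw [e1] at h1
    obtain ⟨h2, h3⟩ := h.sh_two hcon h1
    have h4 := cj_mono (g := s) h2
    have h5 := cj_mono (g := s) h3
    rw [cj_V, h.s2, cj_sup, cj_inf, cj_centralizer, cj_cj_inv] at h4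
    rw [h.sQ2, cj_sup, cj_inf, cj_centralizer, cj_cj_inv] at h5
    exact ⟨h4, h5⟩
  obtain ⟨-, h2⟩ := h.sh_two hcon hA
  obtain ⟨h3, -⟩ := h.repl (h.AA_Q2 hA)
  have h4 : AA (o2 H₁) (A ⊓ centralizer (N : Set G) ⊔ N) := h.Q1_of_card h3 (h.sh_le (h.AA_Q2 hA).le)
  obtain ⟨h5, h6⟩ := hsw _ h4
  have h7 : o2 H₂ ≤ centralizer (N₂ : Set G) := by
    have := cj_mono (g := s) h.QC
    rwa [h.sQ1, cj_centralizer] at this
  have h8 := h4.eq_of_le (le_trans (le_inf le_rfl (h2.trans h7)) le_sup_left) h6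
    (CN_sq h4.sq (cj_sq h.Nsq))
  rwa [← h8] at h5

omit hcon in
theorem sN : MulAut.conj s • (MulAut.conj s • V (zpowers z₂) H₁) = V (zpowers z₂) H₁ := by
  rw [cj_V, cj_V, h.s1, h.s2, cj_zp, cj_zp, h.sz2, h.sz1]

/-- the group `C_{H₁}(M₁ N₁ / N₁)` -/
def KM (H₁ N M₁ : Subgroup G) (hN : H₁ ≤ normalizer (N : Set G)) : Subgroup G where
  carrier := {g | g ∈ H₁ ∧ ∀ m ∈ M₁, g * m * g⁻¹ * m⁻¹ ∈ N}
  one_mem' := ⟨one_mem _, fun m _ => by simp⟩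
  mul_mem' := by
    rintro a b ⟨ha, ha2⟩ ⟨hb, hb2⟩
    refine ⟨mul_mem ha hb, fun m hm => ?_⟩
    have e : a * b * m * (a * b)⁻¹ * m⁻¹ = a * (b * m * b⁻¹ * m⁻¹) * a⁻¹ * (a * m * a⁻¹ * m⁻¹) := by group
    rw [e]
    exact mul_mem ((mem_normalizer_iff.1 (hN ha) _).1 (hb2 m hm)) (ha2 m hm)
  inv_mem' := by
    rintro a ⟨ha, ha2⟩
    refine ⟨inv_mem ha, fun m hm => ?_⟩
    have e : a⁻¹ * m * a⁻¹⁻¹ * m⁻¹ = a⁻¹ * (a * m * a⁻¹ * m⁻¹)⁻¹ * a⁻¹⁻¹ := by group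
    rw [e]
    exact (mem_normalizer_iff.1 (hN (inv_mem ha)) _).1 (inv_mem (ha2 m hm))

/-- **the contradiction** -/
theorem false_of : False := by
  set N := V (zpowers z₂) H₁ with hN
  set N₂ := MulAut.conj s • N with hN2
  set M₁ := V N₂ H₁ with hM1
  have hNn : H₁ ≤ normalizer (N : Set G) := norm_V _ _
  have hMn : H₁ ≤ normalizer (M₁ : Set G) := norm_V _ _
  have hN2n : H₂ ≤ normalizer (N₂ : Set G) := by
    have h1 := norm_V (MulAut.conj s • zpowers z₂) (MulAut.conj s • H₁)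
    rw [← cj_V, h.s1] at h1
    exact h1
  set K : Subgroup G := KM H₁ N M₁ hNn with hK
  have hKH : K ≤ H₁ := fun g hg => hg.1
  have hKn : H₁ ≤ normalizer (K : Set G) := by
    have key : ∀ g ∈ H₁, ∀ x ∈ K, g * x * g⁻¹ ∈ K := by
      rintro g hg x ⟨hx, hx2⟩
      refine ⟨mul_mem (mul_mem hg hx) (inv_mem hg), fun m hm => ?_⟩
      have hm' : g⁻¹ * m * g ∈ M₁ := by
        have := (mem_normalizer_iff.1 (hMn (inv_mem hg)) m).1 hm
        rwa [inv_inv] at this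
      have e : g * x * g⁻¹ * m * (g * x * g⁻¹)⁻¹ * m⁻¹ =
          g * (x * (g⁻¹ * m * g) * x⁻¹ * (g⁻¹ * m * g)⁻¹) * g⁻¹ := by group
      rw [e]
      exact (mem_normalizer_iff.1 (hNn hg) _).1 (hx2 _ hm')
    intro g hg
    rw [mem_normalizer_iff]
    intro x
    refine ⟨key g hg x, fun hx => ?_⟩
    have := key g⁻¹ (inv_mem hg) _ hx
    have e : g⁻¹ * (g * x * g⁻¹) * g⁻¹⁻¹ = x := by group
    rwa [e] at this
  -- `AA(Q₂) ≤ K`
  have hAK : ∀ A, AA (o2 H₂) A → A ≤ K := by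
    intro A hA a ha
    refine ⟨h.OH ((h.AA_Q2 hA).le ha), fun m hm => ?_⟩
    obtain ⟨c, hc, n, hn, rfl⟩ := mem_sup_of_comm (inf_le_right.trans (centralizer_le_normalizer _))
      (h.M1_le hcon hA hm)
    have h1 : a * c = c * a := comm_of_sq hA.sq ha hc.1
    have h2 : a * n * a⁻¹ * n⁻¹ ∈ N :=
      mul_mem ((mem_normalizer_iff.1 (hNn (h.OH ((h.AA_Q2 hA).le ha))) n).1 hn) (inv_mem hn)
    have h3 : (a * n * a⁻¹ * n⁻¹) * c = c * (a * n * a⁻¹ * n⁻¹) := mem_centralizer_iff.1 hc.2 _ h2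
    have e : a * (c * n) * a⁻¹ * (c * n)⁻¹ = (a * c) * (n * a⁻¹ * n⁻¹) * c⁻¹ := by group
    have e2 : c * a * (n * a⁻¹ * n⁻¹) * c⁻¹ = c * (a * n * a⁻¹ * n⁻¹) * c⁻¹ := by group
    rw [e, h1, e2, ← h3, mul_inv_cancel_right]
    exact h2
  have hmv : ∃ k ∈ K, k * z₂ ≠ z₂ * k := by
    by_contra hc
    push Not at hc
    have h1 : N ≤ centralizer (K : Set G) := by
      refine h.N_le_of (mem_centralizer_iff.2 fun k hk => hc k hk) fun g hg => ?_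
      rw [← cj_eq_iff, cj_centralizer, cj_eq_iff.2 (hKn hg)]
    obtain ⟨A, hA, hAn⟩ := h.jmov
    exact hAn ((hAK A hA).trans (NoFF.Basic.comm_symm h1))
  have hgen := h.qp K hKH hKn hmv
  set Y := N ⊔ N₂ with hY
  have hNY : N₂ ≤ M₁ := Z_le_V'
  have norm_of : ∀ X : Subgroup G, (∀ g ∈ X, ∀ y ∈ Y, g * y * g⁻¹ ∈ Y) → X ≤ normalizer (Y : Set G) := by
    intro X hX g hg
    rw [mem_normalizer_iff]
    intro y
    refine ⟨hX g hg y, fun hy => ?_⟩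
    have := hX g⁻¹ (inv_mem hg) _ hy
    have e : g⁻¹ * (g * y * g⁻¹) * g⁻¹⁻¹ = y := by group
    rwa [e] at this
  have hKY : K ≤ normalizer (Y : Set G) := by
    refine norm_of K fun g hg y hy => ?_
    have h1 : Y ≤ MulAut.conj g⁻¹ • Y := by
      refine sup_le (fun n hn => ?_) fun n hn => ?_
      · rw [mem_cj, inv_inv]
        exact mem_sup_left ((mem_normalizer_iff.1 (hNn hg.1) n).1 hn)
      · rw [mem_cj, inv_inv]
        have e : g * n * g⁻¹ = (g * n * g⁻¹ * n⁻¹) * n := by group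
        rw [e]
        exact mul_mem (mem_sup_left (hg.2 n (hNY hn))) (mem_sup_right hn)
    have h2 := h1 hy
    rwa [mem_cj, inv_inv] at h2
  have hMY : M ≤ normalizer (Y : Set G) := by
    intro m hm
    rw [← cj_eq_iff, hY, cj_sup, cj_eq_iff.2 (hNn (h.M1 hm)), cj_eq_iff.2 (hN2n (h.M2 hm))]
  have h1Y : H₁ ≤ normalizer (Y : Set G) := hgen.trans (sup_le hKY hMY)
  have hsY : MulAut.conj s • Y = Y := by
    rw [hY, cj_sup, hN2, h.sN, sup_comm]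
  have h2Y : H₂ ≤ normalizer (Y : Set G) := by
    intro g hg
    rw [← h.s1, mem_cj] at hg
    have h1 := cj_eq_iff.2 (h1Y hg)
    rw [← cj_eq_iff]
    have e : g = s * (s⁻¹ * g * s) * s⁻¹ := by group
    have h2 : MulAut.conj s⁻¹ • Y = Y := by
      conv_lhs => rw [← hsY]
      rw [cj_inv_cj]
    rw [e, ← cj_cj, ← cj_cj, h2, h1, hsY]
  have hYO : Y ≤ o2 M := by
    refine sup_le h.NO ?_
    have := cj_mono (g := s) h.NO
    rwa [h.sO] at this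
  have hY1 := h.nl Y ((MinSimple.VModule.o2_isPGroup M).to_le hYO) h1Y h2Y
  have h3 : z₂ ∈ Y := mem_sup_left h.z2N
  rw [hY1] at h3
  exact h.ne (mem_bot.1 h3)

end con

/-- **THEOREM EX**: for some `A ∈ AA(Q₂)` the group `C_A(U_l)` moves `N₁`. -/
theorem ex : ∃ A, AA (o2 H₂) A ∧
    ¬ A ⊓ centralizer (V (zpowers z₂) R : Set G) ≤ centralizer (V (zpowers z₂) H₁ : Set G) := by
  by_contra hcon
  push Not at hcon
  exact h.false_of hcon

/-- **THEOREM EX, the output**: `B = C_A(U_l) U_l ∈ AA(O)`, `A ∈ AA(Q₂)`, moves `N₁`, `B ≤ O₂(R)`. -/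
theorem main : ∃ A B, AA (o2 H₂) A ∧ B = A ⊓ centralizer (V (zpowers z₂) R : Set G) ⊔ V (zpowers z₂) R ∧
    AA (o2 M) B ∧ ¬ B ≤ centralizer (V (zpowers z₂) H₁ : Set G) ∧ B ≤ o2 R := by
  obtain ⟨A, hA, hn⟩ := h.ex
  exact ⟨A, _, hA, rfl, h.replU hA, fun hc => hn (le_sup_left.trans hc),
    (sup_le_sup_right (inf_le_inf_right _ hA.le) _).trans h.U_le_o2R⟩

/-! ### Exactness -/

/-- exactness on `N₁` -/
theorem exact_N {B : Subgroup G} (hB : AA (o2 M) B) :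
    (centralizer (V (zpowers z₂) H₁ : Set G)).relIndex B = (centralizer (B : Set G)).relIndex (V (zpowers z₂) H₁) :=
  (h.repl hB).2

section U1

variable {U₁ : Subgroup G} (hNU : V (zpowers z₂) H₁ ≤ U₁) (hUQ : U₁ ≤ o2 H₁) (hUc : U₁ ≤ centralizer (o2 H₁ : Set G))
include hNU hUQ hUc

theorem cent_eq {B : Subgroup G} (hB : B ≤ o2 M) :
    B ⊓ centralizer (U₁ : Set G) = B ⊓ centralizer (V (zpowers z₂) H₁ : Set G) := by
  apply le_antisymm (inf_le_inf_left _ (centralizer_le hNU))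
  exact le_inf inf_le_left (((inf_le_inf_right _ hB).trans h.cO).trans (NoFF.Basic.comm_symm hUc))

/-- exactness on `U₁` -/
theorem exact_U (hsq : ∀ x ∈ U₁, x * x = 1) {B : Subgroup G} (hB : AA (o2 M) B) :
    (centralizer (U₁ : Set G)).relIndex B = (centralizer (B : Set G)).relIndex U₁ := by
  refine (hB.repl (hUQ.trans h.Q1O) hsq ?_).2
  calc (centralizer (U₁ : Set G)).relIndex B = (centralizer (V (zpowers z₂) H₁ : Set G)).relIndex B := by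
        rw [← inf_relIndex_left, h.cent_eq hNU hUQ hUc hB.le, inf_relIndex_left]
    _ ≤ (centralizer (B : Set G)).relIndex (V (zpowers z₂) H₁) := h.no1 B hB.le hB.sq
    _ ≤ (centralizer (B : Set G)).relIndex U₁ := relIndex_le_of_le_right hNU index_ne_zero_of_finite

/-- **exactness on `U₁ / ⟨z₁⟩`** -/
theorem exact_M (hz1 : z₁ ∈ U₁) (hz1c : ∀ g ∈ H₁, g * z₁ = z₁ * g)
    (ncj : ∀ g ∈ H₁, g * z₂ * g⁻¹ ≠ z₁ * z₂)
    (noM : ∀ A : Subgroup G, A ≤ o2 M → (∀ a ∈ A, a * a = 1) → ∀ KA CW : Subgroup G,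
      (∀ a, a ∈ KA ↔ a ∈ A ∧ ∀ x ∈ V (zpowers z₂) H₁ ⊔ zpowers z₁, a * x * a⁻¹ * x⁻¹ ∈ zpowers z₁) →
      (∀ x, x ∈ CW ↔ x ∈ V (zpowers z₂) H₁ ⊔ zpowers z₁ ∧ ∀ a ∈ A, a * x * a⁻¹ * x⁻¹ ∈ zpowers z₁) →
      KA.relIndex A ≤ CW.relIndex (V (zpowers z₂) H₁ ⊔ zpowers z₁))
    (hsq : ∀ x ∈ U₁, x * x = 1) {B : Subgroup G} (hB : AA (o2 M) B) {KA CU : Subgroup G}
    (hKA : ∀ a, a ∈ KA ↔ a ∈ B ∧ ∀ x ∈ U₁, a * x * a⁻¹ * x⁻¹ ∈ zpowers z₁)
    (hCU : ∀ x, x ∈ CU ↔ x ∈ U₁ ∧ ∀ a ∈ B, a * x * a⁻¹ * x⁻¹ ∈ zpowers z₁) :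
    KA = B ⊓ centralizer (V (zpowers z₂) H₁ : Set G) ∧ KA.relIndex B = CU.relIndex U₁ := by
  set N := V (zpowers z₂) H₁ with hN
  have hWU : N ⊔ zpowers z₁ ≤ U₁ := sup_le hNU (by simpa using hz1)
  have hz11 : z₁ * z₁ = 1 := hsq z₁ hz1
  have hzp : ∀ x ∈ zpowers z₁, x = 1 ∨ x = z₁ := by
    intro x hx
    obtain ⟨k, rfl⟩ := mem_zpowers_iff.1 hx
    rcases Int.even_or_odd' k with ⟨m, rfl | rfl⟩
    · left
      rw [zpow_mul, zpow_two, hz11, one_zpow]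
    · right
      rw [zpow_add, zpow_mul, zpow_two, hz11, one_zpow, zpow_one, one_mul]
  -- a central-modulo-`z₁` element centralises `N₁`
  have hcent : ∀ a ∈ B, (∀ x ∈ N, a * x * a⁻¹ * x⁻¹ ∈ zpowers z₁) → a ∈ centralizer (N : Set G) := by
    intro a ha hax
    have haH : a ∈ H₁ := h.OH (hB.le ha)
    have h1 : N ≤ centralizer ({a} : Set G) := by
      refine NoFF.Basic.V_le fun p hp => ?_
      rw [cj_zp, zpowers_le, mem_centralizer_singleton_iff]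
      have hzN : p * z₂ * p⁻¹ ∈ N := by
        have := NoFF.Basic.Z_le_V (Z := zpowers z₂) hp
        rw [cj_zp] at this
        exact this (mem_zpowers _)
      have h2 := hax _ hzN
      rcases hzp _ h2 with h3 | h3
      · have h4 := mul_inv_eq_one.1 h3
        exact (mul_inv_eq_iff_eq_mul.1 h4).symm
      · exfalso
        have h4 : a * (p * z₂ * p⁻¹) * a⁻¹ = z₁ * (p * z₂ * p⁻¹) := mul_inv_eq_iff_eq_mul.1 h3
        refine ncj (p⁻¹ * a * p) (mul_mem (mul_mem (inv_mem hp) haH) hp) ?_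
        have h5 : p * z₁ = z₁ * p := hz1c p hp
        calc p⁻¹ * a * p * z₂ * (p⁻¹ * a * p)⁻¹ = p⁻¹ * (a * (p * z₂ * p⁻¹) * a⁻¹) * p := by group
          _ = p⁻¹ * (z₁ * (p * z₂ * p⁻¹)) * p := by rw [h4]
          _ = p⁻¹ * (z₁ * p) * z₂ := by group
          _ = z₁ * z₂ := by rw [← h5]; group
    exact mem_centralizer_iff.2 fun x hx => (mem_centralizer_singleton_iff.1 (h1 hx))
  have hKe : KA = B ⊓ centralizer (N : Set G) := by
    ext a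
    rw [hKA, mem_inf]
    constructor
    · rintro ⟨h1, h2⟩
      exact ⟨h1, hcent a h1 fun x hx => h2 x (hNU hx)⟩
    · rintro ⟨h1, h2⟩
      refine ⟨h1, fun x hx => ?_⟩
      have h3 : a ∈ B ⊓ centralizer (U₁ : Set G) := by
        rw [h.cent_eq hNU hUQ hUc hB.le]
        exact ⟨h1, h2⟩
      have h4 : x * a = a * x := mem_centralizer_iff.1 h3.2 x hx
      have h5 : a * x * a⁻¹ * x⁻¹ = 1 := by rw [← h4]; group
      rw [h5]
      exact one_mem _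
  refine ⟨hKe, le_antisymm ?_ ?_⟩
  · have h1 := noM B hB.le hB.sq KA (CU ⊓ (N ⊔ zpowers z₁)) (fun a => ?_) (fun x => ?_)
    · rw [inf_relIndex_right] at h1
      exact h1.trans (relIndex_le_of_le_right hWU index_ne_zero_of_finite)
    · rw [hKA]
      refine ⟨fun ⟨h1, h2⟩ => ⟨h1, fun x hx => h2 x (hWU hx)⟩, fun ⟨h1, h2⟩ => ?_⟩
      rw [← hKA, hKe]
      exact ⟨h1, hcent a h1 fun x hx => h2 x (mem_sup_left hx)⟩
    · rw [mem_inf, hCU]
      exact ⟨fun ⟨⟨_, h2⟩, h3⟩ => ⟨h3, h2⟩, fun ⟨h1, h2⟩ => ⟨⟨hWU h1, h2⟩, h1⟩⟩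
  · have h1 : CU.relIndex U₁ ≤ (centralizer (B : Set G)).relIndex U₁ := by
      rw [← inf_relIndex_left U₁ (centralizer (B : Set G))]
      refine relIndex_le_of_le_left (fun x hx => ?_) index_ne_zero_of_finite
      refine (hCU x).2 ⟨hx.1, fun a ha => ?_⟩
      have h4 : a * x = x * a := mem_centralizer_iff.1 hx.2 a ha
      have h5 : a * x * a⁻¹ * x⁻¹ = 1 := by rw [h4]; group
      rw [h5]
      exact one_mem _
    rw [← h.exact_U hNU hUQ hUc hsq hB] at h1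
    rw [hKe, ← h.cent_eq hNU hUQ hUc hB.le, inf_relIndex_left]
    exact h1

end U1

end ExI

end Cfsg.Agent.Omega.ELV
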