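import Cfsg.Agent.Omega.ELV.Ex2
import Cfsg.Agent.Omega.ML.Final

/-!
# THEOREM EX: `(NO)` from `MLK`, and the constructor `ExI.of`

* `no_V` : `(NO)` for a subgroup `C` on `⟨z^C⟩`;
* `no_sec` : `(NO)` for `C` on `⟨z^C⟩ Y / Y`;
* `ExI.of` : the setting `ExI` from `T`, `K₁` (`R = K₁ T`);
* `ExI.exact_M'` : exactness on `U₁ / ⟨z₁⟩` from `MLK`.
-/

set_option autoImplicit false
set_option linter.unusedSectionVars false

namespace Cfsg.Agent.Omega.ELV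

open Subgroup Cfsg
open Cfsg.Agent.ZN (o2)
open NoFF.Basic (V)
open scoped Pointwise

universe u

variable {G : Type u} [Group G] [Finite G]

/-- the data of `(NO)` -/
structure NoD (C T Q : Subgroup G) (z : G) : Prop where
  KG : IsKGroup C
  TC : T ≤ C
  two : IsPGroup 2 T
  odd : ¬ 2 ∣ T.relIndex C
  fixT : ∀ t ∈ T, t * z = z * t
  QC : Q ≤ C
  Q2 : IsPGroup 2 Q
  fixQ : ∀ q ∈ Q, q * z = z * q
  nrmQ : ∀ g ∈ C, g * z = z * g → ∀ q ∈ Q, g * q * g⁻¹ ∈ Q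

/-- **`(NO)` on a section** `⟨z^C⟩ Y / Y`, the stabiliser of `z Y` is the stabiliser of `z` -/
theorem no_sec (hML : ML.Final.MLK.{u, u}) {C T Q Y : Subgroup G} {z : G} (D : NoD C T Q z)
    (hY : C ≤ normalizer (Y : Set G)) (hWY : V (zpowers z) C ≤ normalizer (Y : Set G))
    (hsq : ∀ x ∈ V (zpowers z) C ⊔ Y, x * x ∈ Y)
    (hst : ∀ g ∈ C, g * z * g⁻¹ * z⁻¹ ∈ Y → g * z = z * g)
    {A : Subgroup G} (hA : A ≤ Q) (hA2 : ∀ a ∈ A, a * a = 1) {KA CW : Subgroup G}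
    (hKA : ∀ a, a ∈ KA ↔ a ∈ A ∧ ∀ x ∈ V (zpowers z) C ⊔ Y, a * x * a⁻¹ * x⁻¹ ∈ Y)
    (hCW : ∀ x, x ∈ CW ↔ x ∈ V (zpowers z) C ⊔ Y ∧ ∀ a ∈ A, a * x * a⁻¹ * x⁻¹ ∈ Y) :
    KA.relIndex A ≤ CW.relIndex (V (zpowers z) C ⊔ Y) := by
  have h1 : ∀ g, g * z = z * g → g * z * g⁻¹ * z⁻¹ ∈ Y := by
    intro g hg
    have e : g * z * g⁻¹ * z⁻¹ = 1 := by rw [hg]; group
    rw [e]
    exact one_mem _
  refine hML.grp D.KG (C := C) (W := V (zpowers z) C ⊔ Y) (Y := Y) (T := T) (Q := Q) (A := A) (w := z)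
    { nW := fun g hg => by
        rw [← cj_eq_iff, cj_sup, cj_eq_iff.2 (norm_V _ _ hg), cj_eq_iff.2 (hY hg)]
      nY := hY
      YW := le_sup_right
      WY := sup_le hWY le_normalizer
      sq := hsq
      mem := mem_sup_left (Z_le_V' (mem_zpowers z))
      gen := by
        intro U hzU hYU hCU
        refine sup_le (NoFF.Basic.V_le fun p hp => ?_) hYU
        rw [← cj_eq_iff.2 (hCU hp)]
        exact cj_mono (by simpa using hzU)
      TC := D.TC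
      two := D.two
      odd := D.odd
      fixT := fun t ht => h1 t (D.fixT t ht)
      QC := D.QC
      Q2 := D.Q2
      fixQ := fun q hq => h1 q (D.fixQ q hq)
      nrmQ := fun g hg hgz q hq => D.nrmQ g hg (hst g hg hgz) q hq
      AQ := hA
      Asq := fun a ha x hx => by
        have e : a * (a * x * a⁻¹) * a⁻¹ * x⁻¹ = (a * a) * x * (a * a)⁻¹ * x⁻¹ := by group
        rw [e, hA2 a ha]
        simp } hKA hCW

/-- **`(NO)` on `⟨z^C⟩`** -/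
theorem no_V (hML : ML.Final.MLK.{u, u}) {C T Q : Subgroup G} {z : G} (D : NoD C T Q z)
    (hsq : ∀ x ∈ V (zpowers z) C, x * x = 1) {A : Subgroup G} (hA : A ≤ Q) (hA2 : ∀ a ∈ A, a * a = 1) :
    No (V (zpowers z) C) A := by
  have hbot : normalizer ((⊥ : Subgroup G) : Set G) = ⊤ := normalizer_eq_top _
  have key := no_sec hML D (Y := ⊥) (by rw [hbot]; exact le_top) (by rw [hbot]; exact le_top)
    (fun x hx => by
      rw [sup_bot_eq] at hx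
      rw [hsq x hx]
      exact one_mem _)
    (fun g _ hg => by
      exact mul_inv_eq_iff_eq_mul.1 (mul_inv_eq_one.1 (mem_bot.1 hg))) hA hA2
    (KA := A ⊓ centralizer (V (zpowers z) C : Set G)) (CW := V (zpowers z) C ⊓ centralizer (A : Set G))
    (fun a => by
      rw [sup_bot_eq, mem_inf, mem_centralizer_iff]
      refine and_congr_right fun _ => forall₂_congr fun x _ => ?_
      rw [mem_bot, mul_inv_eq_one, mul_inv_eq_iff_eq_mul]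
      exact eq_comm)
    (fun x => by
      rw [sup_bot_eq, mem_inf, mem_centralizer_iff]
      refine and_congr_right fun _ => forall₂_congr fun a _ => ?_
      rw [mem_bot, mul_inv_eq_one, mul_inv_eq_iff_eq_mul])
  rw [sup_bot_eq, inf_relIndex_left, inf_relIndex_left] at key
  exact key

/-- The data of THEOREM EX, with `T` and `K₁`. -/
structure ExT (H₁ H₂ M T K₁ P₁ : Subgroup G) (z₁ z₂ s : G) : Prop where
  M1 : M ≤ H₁
  M2 : M ≤ H₂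
  st : ∀ h ∈ H₁, h * z₂ = z₂ * h → h ∈ M
  cz : ∀ m ∈ H₂, m * z₂ = z₂ * m
  sq : z₂ * z₂ = 1
  ne : z₂ ≠ 1
  zQ : z₂ ∈ o2 H₁
  zc : z₂ ∈ centralizer (o2 H₁ : Set G)
  s1 : MulAut.conj s • H₁ = H₂
  s2 : MulAut.conj s • H₂ = H₁
  sM : MulAut.conj s • M = M
  sz1 : s * z₁ * s⁻¹ = z₂
  sz2 : s * z₂ * s⁻¹ = z₁
  nl : ∀ X : Subgroup G, IsPGroup 2 X → H₁ ≤ normalizer (X : Set G) → H₂ ≤ normalizer (X : Set G) → X = ⊥
  TM : T ≤ M
  two : IsPGroup 2 T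
  odd : ¬ 2 ∣ T.relIndex H₁
  KH : K₁ ≤ H₁
  QK : o2 H₂ ≤ K₁
  zK : z₂ ∈ K₁
  TK : T ≤ normalizer (K₁ : Set G)
  PH : P₁ ≤ H₂
  PK : P₁ ≤ normalizer (K₁ : Set G)
  gen : H₂ ≤ M ⊔ P₁
  qp : ∀ K : Subgroup G, K ≤ H₁ → H₁ ≤ normalizer (K : Set G) → (∃ k ∈ K, k * z₂ ≠ z₂ * k) → H₁ ≤ K ⊔ M
  KG : IsKGroup H₁
  KR : IsKGroup (K₁ ⊔ T : Subgroup G)

namespace ExT

variable {H₁ H₂ M T K₁ P₁ : Subgroup G} {z₁ z₂ s : G} (h : ExT H₁ H₂ M T K₁ P₁ z₁ z₂ s)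

include h

theorem RH : K₁ ⊔ T ≤ H₁ := sup_le h.KH (h.TM.trans h.M1)

/-- `⟨z₂^{K₁ T}⟩ = ⟨z₂^{K₁}⟩` -/
theorem V_eq : V (zpowers z₂) (K₁ ⊔ T) = V (zpowers z₂) K₁ := by
  apply le_antisymm
  · refine NoFF.Basic.V_le fun p hp => ?_
    rw [sup_comm] at hp
    obtain ⟨t, ht, k, hk, rfl⟩ := mem_sup_of_comm h.TK hp
    have hk' : t * k * t⁻¹ ∈ K₁ := (mem_normalizer_iff.1 (h.TK ht) k).1 hk
    have e1 : t * k = t * k * t⁻¹ * t := by group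
    rw [e1, ← cj_cj, cj_zp]
    have e : t * z₂ * t⁻¹ = z₂ := by rw [h.cz t (h.M2 (h.TM ht)), mul_inv_cancel_right]
    rw [e]
    exact NoFF.Basic.Z_le_V hk'
  · exact NoFF.Basic.V_le fun p hp => NoFF.Basic.Z_le_V (mem_sup_left hp)

theorem PU : P₁ ≤ normalizer (V (zpowers z₂) (K₁ ⊔ T) : Set G) := by
  intro p hp
  have e : p * z₂ * p⁻¹ = z₂ := by rw [h.cz p (h.PH hp), mul_inv_cancel_right]
  rw [h.V_eq, ← cj_eq_iff, cj_V, cj_zp, e, cj_eq_iff.2 (h.PK hp)]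

theorem Q1M : o2 H₁ ≤ M := fun q hq =>
  h.st q (MinSimple.VModule.o2_le _ hq) (mem_centralizer_iff.1 h.zc q hq)

theorem zH2 : ∀ g ∈ H₂, g * z₂ = z₂ * g := h.cz

theorem N_le_of {X : Subgroup G} (hz : z₂ ∈ X) (hX : H₁ ≤ normalizer (X : Set G)) : V (zpowers z₂) H₁ ≤ X := by
  refine NoFF.Basic.V_le fun p hp => ?_
  rw [← cj_eq_iff.2 (hX hp)]
  exact cj_mono (by simpa using hz)

theorem Nsq : ∀ n ∈ V (zpowers z₂) H₁, n * n = 1 := by
  have hNQ : V (zpowers z₂) H₁ ≤ o2 H₁ := h.N_le_of h.zQ (MinSimple.VModule.le_normalizer_o2 _)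
  have hNC : V (zpowers z₂) H₁ ≤ centralizer (o2 H₁ : Set G) := by
    refine h.N_le_of h.zc fun g hg => ?_
    rw [← cj_eq_iff, cj_centralizer, cj_eq_iff.2 (MinSimple.VModule.le_normalizer_o2 _ hg)]
  have hab : V (zpowers z₂) H₁ ≤ centralizer (V (zpowers z₂) H₁ : Set G) := hNC.trans (centralizer_le hNQ)
  let E : Subgroup G :=
    { carrier := {n | n ∈ V (zpowers z₂) H₁ ∧ n * n = 1}
      one_mem' := ⟨one_mem _, one_mul 1⟩
      mul_mem' := by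
        rintro a b ⟨ha, ha2⟩ ⟨hb, hb2⟩
        refine ⟨mul_mem ha hb, ?_⟩
        have h1 : b * a = a * b := mem_centralizer_iff.1 (hab ha) b hb
        calc a * b * (a * b) = a * (b * a) * b := by group
          _ = a * a * (b * b) := by rw [h1]; group
          _ = 1 := by rw [ha2, hb2, one_mul]
      inv_mem' := by
        rintro a ⟨ha, ha2⟩
        refine ⟨inv_mem ha, ?_⟩
        rw [← mul_inv_rev, ha2, inv_one] }
  have key : V (zpowers z₂) H₁ ≤ E := by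
    refine h.N_le_of ⟨Z_le_V' (mem_zpowers z₂), h.sq⟩ fun g hg => ?_
    have h1 := norm_V (zpowers z₂) H₁ hg
    rw [mem_normalizer_iff] at h1 ⊢
    intro x
    have e : g * x * g⁻¹ * (g * x * g⁻¹) = g * (x * x) * g⁻¹ := by group
    constructor
    · rintro ⟨h2, h3⟩
      refine ⟨(h1 x).1 h2, ?_⟩
      rw [e, h3, mul_one, mul_inv_cancel]
    · rintro ⟨h2, h3⟩
      refine ⟨(h1 x).2 h2, ?_⟩
      rw [e] at h3
      exact conj_eq_one_iff.1 h3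
  exact fun n hn => (key hn).2

/-- the data of `(NO)` for `H₁` and `O₂(M)` -/
theorem noD1 : NoD H₁ T (o2 M) z₂ where
  KG := h.KG
  TC := h.TM.trans h.M1
  two := h.two
  odd := h.odd
  fixT := fun t ht => h.cz t (h.M2 (h.TM ht))
  QC := (MinSimple.VModule.o2_le _).trans h.M1
  Q2 := MinSimple.VModule.o2_isPGroup _
  fixQ := fun q hq => h.cz q (h.M2 (MinSimple.VModule.o2_le _ hq))
  nrmQ := fun g hg hgz q hq =>
    (mem_normalizer_iff.1 (MinSimple.VModule.le_normalizer_o2 _ (h.st g hg hgz)) q).1 hq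

/-- the data of `(NO)` for `K₁ T` and `O₂(H₂)` -/
theorem noDR : NoD (K₁ ⊔ T) T (o2 H₂) z₂ where
  KG := h.KR
  TC := le_sup_right
  two := h.two
  odd := fun h2 => h.odd (h2.trans (Dvd.intro _ (relIndex_mul_relIndex T (K₁ ⊔ T) H₁ le_sup_right h.RH)))
  fixT := fun t ht => h.cz t (h.M2 (h.TM ht))
  QC := h.QK.trans le_sup_left
  Q2 := MinSimple.VModule.o2_isPGroup _
  fixQ := fun q hq => h.cz q (MinSimple.VModule.o2_le _ hq)
  nrmQ := fun g hg hgz q hq =>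
    (mem_normalizer_iff.1 (MinSimple.VModule.le_normalizer_o2 _ (h.M2 (h.st g (h.RH hg) hgz))) q).1 hq

/-- **the setting of THEOREM EX** -/
theorem exI (hML : ML.Final.MLK.{u, u}) : ExI H₁ H₂ M (K₁ ⊔ T) P₁ z₁ z₂ s where
  M1 := h.M1
  M2 := h.M2
  st := h.st
  cz := fun m hm => h.cz m (h.M2 hm)
  sq := h.sq
  ne := h.ne
  zQ := h.zQ
  zc := h.zc
  s1 := h.s1
  s2 := h.s2
  sM := h.sM
  sz1 := h.sz1
  sz2 := h.sz2
  nl := h.nl
  RH := h.RH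
  QR := h.QK.trans le_sup_left
  zR := mem_sup_left h.zK
  PH := h.PH
  PU := h.PU
  gen := h.gen
  qp := h.qp
  no1 := fun _ hA hA2 => no_V hML h.noD1 h.Nsq hA hA2
  noU := fun _ hA hA2 => no_V hML h.noDR
    (fun n hn => h.Nsq n ((NoFF.Basic.V_le fun _ hp => NoFF.Basic.Z_le_V (h.RH hp)) hn)) hA hA2

/-- **THEOREM EX, all outputs**: `B = C_A(U_l) U_l`, `A ∈ AA(Q₂)`, is elementary abelian of maximal order in `O₂(M)`,
lies in `O₂(K₁ T)`, moves `N₁`, is exact on `N₁`, on `U₁` and on `U₁ / ⟨z₁⟩`. -/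
theorem main (hML : ML.Final.MLK.{u, u}) {U₁ : Subgroup G} (hNU : V (zpowers z₂) H₁ ≤ U₁) (hUQ : U₁ ≤ o2 H₁)
    (hUc : U₁ ≤ centralizer (o2 H₁ : Set G)) (hsq : ∀ x ∈ U₁, x * x = 1) (hz1 : z₁ ∈ U₁)
    (hz1c : ∀ g ∈ H₁, g * z₁ = z₁ * g) (ncj : ∀ g ∈ H₁, g * z₂ * g⁻¹ ≠ z₁ * z₂) :
    ∃ B : Subgroup G, B ≤ o2 M ∧ (∀ b ∈ B, b * b = 1) ∧ B ≤ o2 (K₁ ⊔ T) ∧
      ¬ B ≤ centralizer (V (zpowers z₂) H₁ : Set G) ∧
      (centralizer (V (zpowers z₂) H₁ : Set G)).relIndex B = (centralizer (B : Set G)).relIndex (V (zpowers z₂) H₁) ∧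
      (centralizer (U₁ : Set G)).relIndex B = (centralizer (B : Set G)).relIndex U₁ ∧
      ∀ KA CU : Subgroup G, (∀ a, a ∈ KA ↔ a ∈ B ∧ ∀ x ∈ U₁, a * x * a⁻¹ * x⁻¹ ∈ zpowers z₁) →
        (∀ x, x ∈ CU ↔ x ∈ U₁ ∧ ∀ a ∈ B, a * x * a⁻¹ * x⁻¹ ∈ zpowers z₁) →
        KA = B ⊓ centralizer (V (zpowers z₂) H₁ : Set G) ∧ KA.relIndex B = CU.relIndex U₁ := by
  have e := h.exI hML
  obtain ⟨A, B, -, -, hB, hmv, hR⟩ := e.main
  refine ⟨B, hB.le, hB.sq, hR, hmv, e.exact_N hB, e.exact_U hNU hUQ hUc hsq hB, fun KA CU hKA hCU => ?_⟩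
  have hzn : H₁ ≤ normalizer (zpowers z₁ : Set G) := fun g hg => by
    rw [← cj_eq_iff, cj_zp, hz1c g hg, mul_inv_cancel_right]
  have hz11 : z₁ * z₁ = 1 := hsq z₁ hz1
  have hzp : ∀ x ∈ zpowers z₁, x = 1 ∨ x = z₁ := by
    intro x hx
    obtain ⟨k, rfl⟩ := mem_zpowers_iff.1 hx
    rcases Int.even_or_odd' k with ⟨m, rfl | rfl⟩
    · left
      rw [zpow_mul, zpow_two, hz11, one_zpow]
    · right
      rw [zpow_add, zpow_mul, zpow_two, hz11, one_zpow, zpow_one, one_mul]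
  have hWU : V (zpowers z₂) H₁ ⊔ zpowers z₁ ≤ U₁ := sup_le hNU (by simpa using hz1)
  refine e.exact_M hNU hUQ hUc hz1 hz1c ncj (fun A hA hA2 KA' CW hKA' hCW => ?_) hsq hB hKA hCU
  refine no_sec hML h.noD1 hzn ((hNU.trans (hUQ.trans (MinSimple.VModule.o2_le _))).trans hzn)
    (fun x hx => by rw [hsq x (hWU hx)]; exact one_mem _) (fun g hg hgz => ?_) hA hA2 hKA' hCW
  rcases hzp _ hgz with h1 | h1
  · exact mul_inv_eq_iff_eq_mul.1 (mul_inv_eq_one.1 h1)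
  · exact absurd (mul_inv_eq_iff_eq_mul.1 h1) (ncj g hg)

end ExT

end Cfsg.Agent.Omega.ELV
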